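import Groth.Agent.BertiniIrrLib.Sections
import Groth.Agent.IntFunLib.NefApps
import Groth.Agent.NumTrivLib.Num

/-!
# The index theorem in higher dimension
-/

set_option autoImplicit false
set_option linter.style.haveILetI false
set_option maxHeartbeats 800000
universe u

open CategoryTheory CategoryTheory.Limits AlgebraicGeometry TopologicalSpace Opposite
open HilbPolyLib DevissLib IntMultLib IntFunLib
open KFlatLib (pb)
open TwistLib (genSet)
open AmpleThLib (tensorPow_isInvertible)

noncomputable section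

namespace BertiniIrrLib

theorem surjective_unitHom_of_genAt {X : Scheme.{u}} {N : X.Modules} (σ : Γ(N, ⊤)) {x : X}
    (h : AmpleLib.GenAt N σ (show x ∈ (⊤ : X.Opens) from trivial)) :
    Function.Surjective ((St x).map (QCohLib.unitHom N σ)).hom := by
  intro b
  obtain ⟨c, hc⟩ := h.2 b
  obtain ⟨W, hxW, t, rfl⟩ := X.presheaf.germ_exist c
  refine ⟨gm (Coh.structureModule X) x hxW (show Γ(Coh.structureModule X, W) from t), Eq.trans ?_ hc⟩
  rw [gm_app]
  refine Eq.trans (congrArg (gm N x hxW) (QCohLib.unitHom_app N σ W t)) ?_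
  exact (gm_smul N x hxW _ _).trans (congrArg (_ • ·) (gm_map N le_top x hxW σ))

variable {k : Type u} [Field k]

/-- The numbers of `closure {ξ}` are those of the integral subscheme. -/
theorem N_ptIdeal {X : Scheme.{u}} [X.Over (Spec (CommRingCat.of k))] [IsProper (X ↘ Spec (CommRingCat.of k))]
    (ξ : X) [(ptIdeal ξ).subscheme.Over (Spec (CommRingCat.of k))]
    [IsProper ((ptIdeal ξ).subscheme ↘ Spec (CommRingCat.of k))]
    (hι : (ptIdeal ξ).subschemeι ≫ (X ↘ Spec (CommRingCat.of k)) =
      (ptIdeal ξ).subscheme ↘ Spec (CommRingCat.of k))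
    {l : List X.Modules} (hl : ∀ A ∈ l, PicF.IsInvertible A)
    (hd : topologicalKrullDim (closure ({ξ} : Set X)) ≤ (l.length : ℕ)) :
    N k l (Fpt ξ) = N k (l.map (pb (ptIdeal ξ).subschemeι)) (Coh.structureModule (ptIdeal ξ).subscheme) :=
  (N_push hι hl (DevissLib.isCoh_structureModule _) ((topologicalKrullDim_subspace_le _ _).trans
    ((le_of_eq ((ptIdeal ξ).subschemeι.isEmbedding.toHomeomorph.trans
      (Homeomorph.setCongr (range_ptIdeal ξ))).isHomeomorph.topologicalKrullDim_eq).trans hd))).symm

variable [IsAlgClosed k]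

/-- The numbers of a hypersurface section with only one component of top dimension. -/
theorem exists_section_numbers {X : Scheme.{u}} [X.Over (Spec (CommRingCat.of k))]
    [IsProper (X ↘ Spec (CommRingCat.of k))] [IsIntegral X] {r : ℕ}
    (hX : topologicalKrullDim X = ((r + 1 : ℕ) : WithBot ℕ∞)) (hr : 2 ≤ r)
    {A : X.Modules} (hA : CohB1.IsAmple A) {c : X}
    (hc : topologicalKrullDim (closure ({c} : Set X)) = ((1 : ℕ) : WithBot ℕ∞)) :
    ∃ (η : X) (μ m : ℤ), 0 < μ ∧ 0 < m ∧ c ∈ closure ({η} : Set X) ∧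
      topologicalKrullDim (closure ({η} : Set X)) = (r : WithBot ℕ∞) ∧
      ∀ l : List X.Modules, (∀ B ∈ l, PicF.IsInvertible B) → l.length = r →
        μ * N k l (Fpt η) = m * N k (A :: l) (Coh.structureModule X) := by
  haveI := CurvLib.isNoetherian k (X := X)
  obtain ⟨m, hm, σ, η, hgen, hcη, hησ, hηd, huniq⟩ := exists_irreducible_section k hX hr hA hc
  have hMi := tensorPow_isInvertible hA.1 m
  let φ : Coh.structureModule X ⟶ CohB1.tensorPow A m := QCohLib.unitHom _ σ
  have hO := DevissLib.isCoh_structureModule X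
  have hMc := CurvLib.isCoh_of_isInvertible hMi
  have hC : Coh.IsCoh (cokernel φ) := QCohLib.isCoh_cokernel φ hO.1 hMc
  have hsub : CohB1.support (cokernel φ) ⊆ ((genSet hMi σ : Set X))ᶜ := fun x hx hxg =>
    DevissLib.notMem_support_cokernel φ x (surjective_unitHom_of_genAt σ hxg) hx
  let S : ShortComplex X.Modules := ShortComplex.mk φ (cokernel.π φ) (cokernel.condition φ)
  have hsup : ∀ y, y ∉ genSet hMi σ → y ∈ CohB1.support (cokernel φ) := fun y hy => by
    by_contra h
    refine hy (genAt_of_unitHom_surjective hMi σ ?_)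
    have hx := (show S.Exact from ShortComplex.exact_cokernel φ).map_of_epi_of_preservesCokernel (St y)
      (show Epi (cokernel.π φ) from inferInstance) inferInstance
    haveI : Epi ((St y).map φ) := hx.epi_f (((notMem_support_iff (cokernel φ) y).mp h).eq_of_tgt _ _)
    exact (ModuleCat.epi_iff_surjective _).mp inferInstance
  have hφ : φ ≠ 0 := fun h => by
    have hs := surjective_unitHom_of_genAt (x := genericPoint X) σ hgen
    have h0 : ∀ b : (St (genericPoint X)).obj (CohB1.tensorPow A m), b = 0 := fun b => by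
      obtain ⟨a, rfl⟩ := hs b
      change ((St (genericPoint X)).map φ).hom a = 0
      rw [h, Functor.map_zero]
      rfl
    have := hgen.1 (a₁ := 1) (a₂ := 0) ((h0 _).trans (h0 _).symm)
    exact one_ne_zero this
  haveI : Mono φ := CurvLib.mono_of_ne_zero CurvLib.isInvertible_structureModule hMi hφ
  have hS : S.ShortExact :=
    { exact := ShortComplex.exact_cokernel φ, mono_f := inferInstanceAs (Mono φ)
      epi_g := inferInstanceAs (Epi (cokernel.π φ)) }
  have hdC : topologicalKrullDim (CohB1.support (cokernel φ)) ≤ (r : ℕ) :=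
    dim_le_iff.mp (dim_lt_of_notMem (QCohLib.isClosed_support _ hC.2)
      (fun z _ => (genericPoint_spec X).def.ge trivial) (fun h => hsub h hgen) (Y := Set.univ) (Set.subset_univ _)
      (dim_le_iff.mpr ((topologicalKrullDim_subspace_le _ _).trans hX.le)))
  have hlen : ∀ l : List X.Modules, (∀ B ∈ l, PicF.IsInvertible B) → l.length = r →
      len (cokernel φ) η ≠ ⊤ ∧ N k l (cokernel φ) = (len (cokernel φ) η).toNat • N k l (Fpt η) := by
    intro l hl hll
    obtain ⟨T, hT, hfin, hsum⟩ := N_sum (k := k) hl hC ⟨η, hsup η hησ⟩ (by rw [hll]; exact hdC)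
    have hT' : T = {η} := Finset.ext fun y => by
      rw [hT, Finset.mem_singleton, hll]
      refine ⟨fun ⟨hy, hyd⟩ => huniq y (hsub hy) hyd, fun hy => by subst hy; exact ⟨hsup _ hησ, hηd⟩⟩
    rw [hsum, hT', Finset.sum_singleton]
    exact ⟨hfin η (hT' ▸ Finset.mem_singleton_self η), rfl⟩
  refine ⟨η, ((len (cokernel φ) η).toNat : ℤ), m, ?_, by exact_mod_cast hm, hcη, hηd, fun l hl hll => ?_⟩
  · have := (hlen (List.replicate r A) (fun B hB => by rw [List.eq_of_mem_replicate hB]; exact hA.1)
      List.length_replicate).1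
    refine Int.natCast_pos.mpr (Nat.pos_of_ne_zero fun h => ?_)
    rcases ENat.toNat_eq_zero.mp h with h | h
    · exact hsup η hησ (Module.length_eq_zero_iff.mp h)
    · exact this h
  · have h1 := (hlen l hl hll).2
    rw [nsmul_eq_mul] at h1
    rw [← h1]
    have hle : topologicalKrullDim (CohB1.support (Coh.structureModule X)) ≤ ((l.length + 1 : ℕ) : WithBot ℕ∞) := by
      rw [hll, ← hX]; exact topologicalKrullDim_subspace_le _ _
    have hadd := N_add (k := k) hl hS hO hMc hC
    change N k l (CohB1.tensorPow A m) = N k l (Coh.structureModule X) + N k l (cokernel φ) at hadd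
    rw [← N_pow (k := k) hl hA.1 hO hle m, N,
      N_congr l (show CohB1.tensorMod (CohB1.tensorPow A m) (Coh.structureModule X) ≅ CohB1.tensorPow A m from
        swapIso _ _ ≪≫ unitLeft _), hadd]
    ring

/-- **The index theorem.** -/
theorem N_eq_zero_of_index : ∀ (d : ℕ) (X : Scheme.{u}) [X.Over (Spec (CommRingCat.of k))]
    [IsProper (X ↘ Spec (CommRingCat.of k))] (ξ c : X) (A L : X.Modules),
    topologicalKrullDim (closure ({ξ} : Set X)) = ((d + 2 : ℕ) : WithBot ℕ∞) → c ∈ closure ({ξ} : Set X) →
    topologicalKrullDim (closure ({c} : Set X)) = ((1 : ℕ) : WithBot ℕ∞) → CohB1.IsAmple A → PicF.IsInvertible L →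
    N k (L :: List.replicate (d + 1) A) (Fpt ξ) = 0 → 0 ≤ N k (L :: L :: List.replicate d A) (Fpt ξ) →
    N k [L] (Fpt c) = 0
  | 0, X, _, _, ξ, c, A, L, hξ, hc, hcd, hA, hL, h1, h2 =>
    HodgeIdxLib.N_eq_zero_of_index hξ hc hcd hA.1 hL (N_ample_pos hA hξ) h1 h2
  | d + 1, X, _, _, ξ, c, A, L, hξ, hc, hcd, hA, hL, h1, h2 => by
    haveI := CurvLib.isNoetherian k (X := X)
    haveI := isIntegral_ptIdeal ξ
    let W := (ptIdeal ξ).subscheme
    let ι : W ⟶ X := (ptIdeal ξ).subschemeι
    letI : W.Over (Spec (CommRingCat.of k)) := ⟨ι ≫ (X ↘ Spec (CommRingCat.of k))⟩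
    haveI : IsProper (W ↘ Spec (CommRingCat.of k)) :=
      inferInstanceAs (IsProper (ι ≫ (X ↘ Spec (CommRingCat.of k))))
    haveI := CurvLib.isNoetherian k (X := W)
    obtain ⟨c', hc'⟩ : c ∈ Set.range ι := (range_ptIdeal ξ).symm ▸ hc
    have hWd : topologicalKrullDim W = ((d + 2 + 1 : ℕ) : WithBot ℕ∞) := by
      rw [(ι.isEmbedding.toHomeomorph.trans
        (Homeomorph.setCongr (range_ptIdeal ξ))).isHomeomorph.topologicalKrullDim_eq]
      exact hξ
    have hc'd : topologicalKrullDim (closure ({c'} : Set W)) = ((1 : ℕ) : WithBot ℕ∞) := by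
      rw [← IntFunLib.dim_closure_image ι, hc']; exact hcd
    have hA' := AmpleDevLib.isAmple_pb ι hA.1 hA
    have hL' := AmpleDevLib.isInvertible_pb ι hL
    have hinv : ∀ a b : ℕ, ∀ B ∈ List.replicate a L ++ List.replicate b A, PicF.IsInvertible B := fun a b B hB => by
      rcases List.mem_append.mp hB with h | h
      · rw [List.eq_of_mem_replicate h]; exact hL
      · rw [List.eq_of_mem_replicate h]; exact hA.1
    have t1 := N_ptIdeal (k := k) ξ rfl (l := L :: List.replicate (d + 1 + 1) A) (hinv 1 _)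
      (by rw [hξ]; simp only [List.length_cons, List.length_replicate]; exact le_of_eq rfl)
    have t2 := N_ptIdeal (k := k) ξ rfl (l := L :: L :: List.replicate (d + 1) A) (hinv 2 _)
      (by rw [hξ]; simp only [List.length_cons, List.length_replicate]; exact le_of_eq rfl)
    simp only [List.map_cons, List.map_replicate] at t1 t2
    rw [t1] at h1
    rw [t2] at h2
    obtain ⟨η, μ, m, hμ, hm, hcη, hηd, hnum⟩ := exists_section_numbers (k := k) (X := W) hWd (by omega) hA' hc'd
    have hlinv : ∀ a b : ℕ, ∀ B ∈ List.replicate a (pb ι L) ++ List.replicate b (pb ι A),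
        PicF.IsInvertible B := fun a b B hB => by
      rcases List.mem_append.mp hB with h | h
      · rw [List.eq_of_mem_replicate h]; exact hL'
      · rw [List.eq_of_mem_replicate h]; exact hA'.1
    have e1 := hnum (pb ι L :: List.replicate (d + 1) (pb ι A)) (hlinv 1 _) (by simp)
    have e2 := hnum (pb ι L :: pb ι L :: List.replicate d (pb ι A)) (hlinv 2 _) (by simp)
    rw [N_perm (show (pb ι A :: pb ι L :: List.replicate (d + 1) (pb ι A)).Perm
      (pb ι L :: List.replicate (d + 1 + 1) (pb ι A)) from List.Perm.swap _ _ _), h1, mul_zero, mul_eq_zero] at e1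
    rw [N_perm (show (pb ι A :: pb ι L :: pb ι L :: List.replicate d (pb ι A)).Perm
      (pb ι L :: pb ι L :: List.replicate (d + 1) (pb ι A)) from
        (List.Perm.swap _ _ _).trans ((List.Perm.swap _ _ _).cons _))] at e2
    have key := N_eq_zero_of_index d W η c' (pb ι A) (pb ι L) hηd hcη hc'd hA' hL' (e1.resolve_left hμ.ne')
      (nonneg_of_mul_nonneg_right (e2 ▸ mul_nonneg hm.le h2) hμ)
    -- back to `X`
    have hd1 : topologicalKrullDim (CohB1.support (Fpt c')) ≤ ([L].length : ℕ) := by
      rw [supp_Fpt k, hc'd]; rfl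
    have hpush : N k [L] ((Coh.push ι).obj (Fpt c')) = 0 :=
      (N_push rfl (l := [L]) (by simpa using hL) (coh_Fpt k c') hd1).symm.trans key
    have hsC : CohB1.support ((Coh.push ι).obj (Fpt c')) ⊆ closure {c} := by
      refine HodgeIdxLib.support_push_le ι _ isClosed_closure ?_
      rw [supp_Fpt k, ← hc']
      refine closure_minimal (Set.singleton_subset_iff.mpr (subset_closure rfl)) ?_
      exact isClosed_closure.preimage ι.continuous
    have hmem : c ∈ CohB1.support ((Coh.push ι).obj (Fpt c')) := by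
      let e : (Coh.push ι).obj (Fpt c') ≅
          (Coh.push ((ptIdeal c').subschemeι ≫ ι)).obj (Coh.structureModule (ptIdeal c').subscheme) :=
        (Scheme.Modules.pushforwardComp (ptIdeal c').subschemeι ι).app _
      have hcW : c' ∈ Set.range (ptIdeal c').subschemeι := (range_ptIdeal c').symm ▸ subset_closure rfl
      obtain ⟨w, hw⟩ := hcW
      have hwc : ((ptIdeal c').subschemeι ≫ ι) w = c := (congrArg ι hw).trans hc'
      rw [DevissLib.support_iso e]
      exact hwc ▸ HodgeIdxLib.mem_support_push_unit ((ptIdeal c').subschemeι ≫ ι) w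
    obtain ⟨ν, hν, hmult⟩ := HodgeIdxLib.exists_mult (k := k)
      (FormalCohLib.isCoh_push_proper ι (coh_Fpt k c')) hsC hmem hcd
    rw [hmult [L] (by simpa using hL) rfl] at hpush
    exact (mul_eq_zero.mp hpush).resolve_left hν.ne'

section Conv

variable {X : Scheme.{u}} [X.Over (Spec (CommRingCat.of k))] [IsProper (X ↘ Spec (CommRingCat.of k))]

omit [IsAlgClosed k] in
/-- Inverses in a block of entries. -/
theorem N_inv_replicate {A A' : X.Modules} (hA : PicF.IsInvertible A) (hA' : PicF.IsInvertible A')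
    (e : CohB1.tensorMod A A' ≅ Coh.structureModule X) {F : X.Modules} (hF : Coh.IsCoh F) :
    ∀ (j : ℕ) (l : List X.Modules), (∀ B ∈ l, PicF.IsInvertible B) →
      topologicalKrullDim (CohB1.support F) ≤ ((j + l.length : ℕ) : WithBot ℕ∞) →
      N k (List.replicate j A' ++ l) F = (-1) ^ j * N k (List.replicate j A ++ l) F
  | 0, l, _, _ => by simp
  | j + 1, l, hl, hd => by
    have hl' : ∀ B ∈ List.replicate j A' ++ l, PicF.IsInvertible B := fun B hB => by
      rcases List.mem_append.mp hB with h | h
      · rw [List.eq_of_mem_replicate h]; exact hA'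
      · exact hl B h
    rw [List.replicate_succ, List.cons_append, HodgeIdxLib.N_inv_head hA hA' e hl' hF
      (hd.trans (by simp; exact_mod_cast le_of_eq (by omega))),
      N_perm (List.perm_middle.symm : (A :: (List.replicate j A' ++ l)).Perm _),
      N_inv_replicate hA hA' e hF j (A :: l) (by simpa [hA] using hl)
        (hd.trans (le_of_eq (by simp; ring))),
      N_perm (List.perm_middle : (List.replicate j A ++ A :: l).Perm (A :: (List.replicate j A ++ l)))]
    rw [List.replicate_succ, List.cons_append, pow_succ]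
    ring

/-- Numerical triviality from the index condition at the generic point. -/
theorem NT_of_index [IrreducibleSpace X] {d : ℕ} (hd : topologicalKrullDim X = ((d + 2 : ℕ) : WithBot ℕ∞))
    {A L : X.Modules} (hA : CohB1.IsAmple A) (hL : PicF.IsInvertible L)
    (h1 : N k (L :: List.replicate (d + 1) A) (Fpt (genericPoint X)) = 0)
    (h2 : 0 ≤ N k (L :: L :: List.replicate d A) (Fpt (genericPoint X))) : NumTrivLib.NT k L := by
  refine ⟨hL, fun C hC hCd => ?_⟩
  haveI := hC
  rw [← IntFunLib.N_singleton (k := k) L C, IntFunLib.eq_ptIdeal C]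
  refine N_eq_zero_of_index d X (genericPoint X) _ A L ?_ ?_ ?_ hA hL h1 h2
  · rw [(genericPoint_spec X).def, (Homeomorph.Set.univ _).isHomeomorph.topologicalKrullDim_eq, hd]
  · rw [(genericPoint_spec X).def]; trivial
  · rw [IntFunLib.dim_generic_of_support, hCd, Nat.cast_one]

end Conv

end BertiniIrrLib

end
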