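import Groth.Agent.S7200
import Groth.Agent.GISpreadLib.Main
import Groth.Agent.GeomIrrLib.Basic
import Groth.Agent.S2150

/-!
# General linear sections of an affine variety are irreducible
-/

set_option autoImplicit false
set_option linter.style.haveILetI false
set_option maxHeartbeats 800000
set_option synthInstance.maxHeartbeats 200000
universe u

open MvPolynomial TensorProduct CategoryTheory CategoryTheory.Limits AlgebraicGeometry

noncomputable section

namespace BertiniIrrLib

variable {k : Type u} [Field k]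

/-- The variables together with the generic linear form and one coefficient are independent. -/
theorem indep_generic [Infinite k] {K Ω : Type u} [Field K] [Field Ω] [Algebra k K] [Algebra k Ω] [Algebra K Ω]
    [IsScalarTower k K Ω] {n : ℕ} (x : Fin n → Ω) (hx : AlgebraicIndependent K x) (g : Fin n → K)
    {i j : Fin n} (hij : AlgebraicIndependent k ![g i, g j]) :
    AlgebraicIndependent k (Sum.elim x ![∑ l, algebraMap K Ω (g l) * x l, algebraMap K Ω (g i)]) := by
  classical
  set T : MvPolynomial (Fin n ⊕ Fin 2) k →ₐ[k] MvPolynomial (Fin n) K :=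
    aeval (Sum.elim X ![∑ l, C (g l) * X l, C (g i)])
  let e : MvPolynomial (Fin n) K →ₐ[k] Ω := (aeval x).restrictScalars k
  have he : Function.Injective e := hx
  have hfac : (aeval (Sum.elim x ![∑ l, algebraMap K Ω (g l) * x l, algebraMap K Ω (g i)]) :
      MvPolynomial (Fin n ⊕ Fin 2) k →ₐ[k] Ω) = e.comp T := by
    refine algHom_ext fun z => ?_
    rcases z with l | z
    · simp [T, e]
    · fin_cases z <;> simp [T, e]
  rw [AlgebraicIndependent, hfac]
  refine he.comp ((injective_iff_map_eq_zero _).mpr fun p hp => ?_)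
  -- evaluate the variables at rational points
  set F : IntermediateField k K := algebraicClosure (IntermediateField.adjoin k {g i}) K |>.restrictScalars k
  let lin : (Fin n → k) →ₗ[k] K := ∑ l, (LinearMap.proj l).smulRight (g l)
  have hlin : ∀ a : Fin n → k, lin a = ∑ l, a l • g l := fun a => by simp [lin]
  let W : Submodule k (Fin n → k) := (F.toSubalgebra.toSubmodule).comap lin
  have hW : W < ⊤ := by
    refine lt_of_le_of_ne le_top fun h => ?_
    have hmem : (Pi.single j 1 : Fin n → k) ∈ W := h ▸ Submodule.mem_top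
    have e1 : lin (Pi.single j 1) = g j := by
      rw [hlin, Finset.sum_eq_single j (fun b _ hb => by simp [hb]) (by simp)]
      simp
    rw [Submodule.mem_comap, e1] at hmem
    have h2 := hij.transcendental_adjoin (s := {0}) (i := 1) (by simp)
    rw [← IntermediateField.transcendental_adjoin_iff, Set.image_singleton] at h2
    exact h2 (mem_algebraicClosure_iff.mp hmem)
  obtain ⟨φ, hφ, hWφ⟩ := Submodule.exists_le_ker_of_lt_top W hW
  set Ψ : MvPolynomial (Fin n) k := ∑ l, C (φ (Pi.single l 1)) * X l
  have hΨ : ∀ a : Fin n → k, eval a Ψ = φ a := fun a => by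
    conv_rhs => rw [pi_eq_sum_univ' a, map_sum]
    simp [Ψ, map_smul, mul_comm]
  have hΨ0 : Ψ ≠ 0 := fun h => hφ (LinearMap.ext fun a => by rw [← hΨ, h, map_zero, LinearMap.zero_apply])
  set Q := sumAlgEquiv k (Fin 2) (Fin n) (rename Sum.swap p)
  suffices hQ : ∀ m, Q.coeff m = 0 by
    have : rename Sum.swap p = 0 := (sumAlgEquiv k (Fin 2) (Fin n)).injective (by
      rw [map_zero]; exact MvPolynomial.ext _ _ fun m => by simpa using hQ m)
    exact (rename_injective _ Sum.swap_leftInverse.injective) (this.trans (map_zero _).symm)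
  intro m
  refine (mul_eq_zero.mp (?_ : Ψ * Q.coeff m = 0)).resolve_left hΨ0
  refine MvPolynomial.funext_set (fun _ => Set.univ) (fun _ => Set.infinite_univ) fun a _ => ?_
  rw [map_mul, map_zero, hΨ]
  by_cases ha : φ a = 0
  · rw [ha, zero_mul]
  have haW : a ∉ W := fun h => ha (hWφ h)
  have hind : AlgebraicIndependent k ![lin a, g i] := by
    have hgi : AlgebraicIndependent k (fun _ : Unit => g i) :=
      hij.comp (fun _ : Unit => (0 : Fin 2)) fun a b _ => Subsingleton.elim a b
    have h3 : Transcendental (IntermediateField.adjoin k {g i}) (lin a) := fun h =>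
      haW (mem_algebraicClosure_iff.mpr h)
    rw [IntermediateField.transcendental_adjoin_iff] at h3
    have h4 := (hgi.option_iff_transcendental (lin a)).mpr (by rwa [Set.range_const])
    convert h4.comp (![none, some ()] : Fin 2 → Option Unit) (by decide) using 1
    funext z
    fin_cases z <;> rfl
  have key : aeval ![lin a, g i] (map (eval a) Q) = 0 := by
    have h5 : ∀ q : MvPolynomial (Fin n ⊕ Fin 2) k,
        aeval ![lin a, g i] (map (eval a) (sumAlgEquiv k (Fin 2) (Fin n) (rename Sum.swap q))) =
          eval (fun l => algebraMap k K (a l)) (T q) := by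
      intro q
      induction q using MvPolynomial.induction_on with
      | C r => simp [T]
      | add p q hp hq => simp only [map_add, hp, hq]
      | mul_X p z hp =>
        simp only [map_mul, hp]
        congr 1
        rcases z with l | z
        · simp [T]
        · fin_cases z
          · simp [T, hlin, Algebra.smul_def, mul_comm]
          · simp [T]
    rw [h5 p]
    exact (congrArg _ hp).trans (map_zero _)
  have h6 : map (eval a) Q = 0 := hind (key.trans (map_zero _).symm)
  have h7 := congrArg (coeff m) h6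
  rw [coeff_map, coeff_zero] at h7
  rw [h7, mul_zero]

theorem geometricallyIrreducible_of_isAlgClosed [IsAlgClosed k] {K : Type u} [Field K] [Algebra k K] :
    GeometricallyIrreducible (Spec.map (CommRingCat.ofHom (algebraMap k K))) := by
  rw [GeomIrrLib.gi_iff_tensor]
  refine Groth.Agent.S2150.result.2 fun α hα => ?_
  exact minpoly.mem_range_of_degree_eq_one k α (IsAlgClosed.degree_eq_one_of_irreducible k (minpoly.irreducible hα.isIntegral))

theorem isPrime_nilradical_of_injective {A A' : Type u} [CommRing A] [CommRing A'] {F : Type*} [FunLike F A A']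
    [RingHomClass F A A'] (f : F) (hf : Function.Injective f) (h : (nilradical A').IsPrime) :
    (nilradical A).IsPrime := by
  have e : nilradical A = (nilradical A').comap f := by
    ext z
    simp only [mem_nilradical, Ideal.mem_comap, IsNilpotent.map_iff hf]
  rw [e]
  exact h.comap f

/-- The generic fibre of a subring of a geometrically irreducible field extension. -/
theorem isPrime_nilradical_generic {R E S Ω L : Type u} [CommRing R] [IsDomain R] [Field E] [CommRing S] [Field Ω]
    [Field L] [Algebra R E] [IsFractionRing R E] [Algebra R S] [Algebra R Ω] [Algebra E Ω] [IsScalarTower R E Ω]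
    [Algebra R L] [Algebra E L] [IsScalarTower R E L] (ι : S →ₐ[R] Ω) (hι : Function.Injective ι)
    (hG : GeometricallyIrreducible (Spec.map (CommRingCat.ofHom (algebraMap E Ω)))) :
    (nilradical (S ⊗[R] L)).IsPrime := by
  haveI : Module.Flat R E := IsLocalization.flat E (nonZeroDivisors R)
  haveI : Module.Flat R L := Module.Flat.trans R E L
  have hΩ : (nilradical (L ⊗[E] Ω)).IsPrime := PrimeSpectrum.irreducibleSpace_iff_isPrime_nilradical.mp
    (GeomIrrLib.gi_iff_tensor.mp hG L)
  let m : S ⊗[R] L →ₐ[R] L ⊗[E] Ω :=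
    Algebra.TensorProduct.lift
      (((Algebra.TensorProduct.includeRight : Ω →ₐ[E] L ⊗[E] Ω).restrictScalars R).comp ι)
      ((Algebra.TensorProduct.includeLeft : L →ₐ[E] L ⊗[E] Ω).restrictScalars R) fun _ _ => .all _ _
  let e : S ⊗[R] L →ₗ[R] L ⊗[E] Ω :=
    ((IsLocalization.moduleTensorEquiv (nonZeroDivisors R) E L Ω).symm.restrictScalars R).toLinearMap ∘ₗ
      (TensorProduct.comm R Ω L).toLinearMap ∘ₗ ι.toLinearMap.rTensor L
  have he : Function.Injective e :=
    (((IsLocalization.moduleTensorEquiv (nonZeroDivisors R) E L Ω).symm.restrictScalars R).injective).comp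
      ((TensorProduct.comm R Ω L).injective.comp
        (Module.Flat.rTensor_preserves_injective_linearMap ι.toLinearMap hι))
  have hme : m.toLinearMap = e := TensorProduct.ext' fun a b => by
    simp [m, e, IsLocalization.moduleTensorEquiv]
    rw [LinearEquiv.eq_symm_apply]
    rfl
  refine isPrime_nilradical_of_injective m ?_ hΩ
  exact (show (m : _ → _) = e from congrArg DFunLike.coe hme) ▸ he

/-- The fibre of the universal section at a rational point is the section. -/
theorem isPrime_radical_section {B : Type u} [CommRing B] [Algebra k B] {n : ℕ} (g : Fin n → B)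
    [Algebra (MvPolynomial (Fin n ⊕ Unit) k) (MvPolynomial (Fin n) B)]
    (hψ : ∀ r, algebraMap (MvPolynomial (Fin n ⊕ Unit) k) (MvPolynomial (Fin n) B) r =
      aeval (Sum.elim X fun _ => ∑ l, C (g l) * X l) r)
    [Algebra (MvPolynomial (Fin n ⊕ Unit) k) k] (a : Fin n ⊕ Unit → k)
    (ha : ∀ r, algebraMap (MvPolynomial (Fin n ⊕ Unit) k) k r = eval a r)
    (hP : (nilradical (MvPolynomial (Fin n) B ⊗[MvPolynomial (Fin n ⊕ Unit) k] k)).IsPrime) :
    (Ideal.span ({(∑ l, a (Sum.inl l) • g l) - algebraMap k B (a (Sum.inr ()))} : Set B)).radical.IsPrime := by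
  set R := MvPolynomial (Fin n ⊕ Unit) k
  set f := (∑ l, a (Sum.inl l) • g l) - algebraMap k B (a (Sum.inr ()))
  let θ₁ : MvPolynomial (Fin n) B →ₐ[k] B ⧸ Ideal.span {f} :=
    (MvPolynomial.aeval (R := B) (fun l => algebraMap k (B ⧸ Ideal.span {f}) (a (Sum.inl l)))).restrictScalars k
  have hθψ : θ₁.comp (aeval (Sum.elim X fun _ => ∑ l, C (g l) * X l)) =
      (Algebra.ofId k (B ⧸ Ideal.span {f})).comp (MvPolynomial.aeval a) := by
    refine algHom_ext fun z => ?_
    rcases z with l | l
    · simp [θ₁]
    · have hf : Ideal.Quotient.mk (Ideal.span {f}) f = 0 :=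
        Ideal.Quotient.eq_zero_iff_mem.mpr (Ideal.mem_span_singleton_self f)
      simp only [f, map_sub, map_sum, Algebra.smul_def, map_mul, sub_eq_zero] at hf
      simp only [θ₁, AlgHom.coe_comp, Function.comp_apply, aeval_X, Sum.elim_inr, map_sum, map_mul,
        AlgHom.coe_restrictScalars', aeval_C, Algebra.ofId_apply]
      refine (Finset.sum_congr rfl fun l _ => ?_).trans hf
      rw [mul_comm]
      rfl
  letI : Algebra R (B ⧸ Ideal.span {f}) :=
    (θ₁.toRingHom.comp (algebraMap R (MvPolynomial (Fin n) B))).toAlgebra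
  let θS : MvPolynomial (Fin n) B →ₐ[R] B ⧸ Ideal.span {f} := { θ₁ with commutes' := fun r => rfl }
  let θk : k →ₐ[R] B ⧸ Ideal.span {f} :=
    { algebraMap k (B ⧸ Ideal.span {f}) with
      commutes' := fun r => by
        show algebraMap k _ (algebraMap R k r) = θ₁ (algebraMap R _ r)
        rw [hψ, ha, ← aeval_eq_eval]
        exact (DFunLike.congr_fun hθψ r).symm }
  let θ : MvPolynomial (Fin n) B ⊗[R] k →ₐ[R] B ⧸ Ideal.span {f} :=
    Algebra.TensorProduct.lift θS θk fun _ _ => .all _ _
  let χ : B →+* MvPolynomial (Fin n) B ⊗[R] k := Algebra.TensorProduct.includeLeftRingHom.comp C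
  have hθχ : ∀ b, θ (χ b) = Ideal.Quotient.mk _ b := fun b => by
    show θS (C b) * θk 1 = _
    rw [map_one, mul_one]
    show θ₁ (C b) = _
    simp [θ₁]
  have hswap : ∀ r : R, (algebraMap R (MvPolynomial (Fin n) B) r) ⊗ₜ[R] (1 : k) =
      (1 : MvPolynomial (Fin n) B) ⊗ₜ[R] (algebraMap R k r) := fun r =>
    (Algebra.TensorProduct.algebraMap_apply r).symm.trans (Algebra.TensorProduct.algebraMap_apply' r)
  have hconst : ∀ c : k, χ (algebraMap k B c) = (1 : MvPolynomial (Fin n) B) ⊗ₜ[R] c := fun c => by
    have h := hswap (C c)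
    rw [hψ, ha] at h
    simpa [χ, MvPolynomial.algebraMap_apply] using h
  have hX : ∀ l, (X l : MvPolynomial (Fin n) B) ⊗ₜ[R] (1 : k) =
      (1 : MvPolynomial (Fin n) B) ⊗ₜ[R] a (Sum.inl l) := fun l => by
    have h := hswap (X (Sum.inl l))
    rw [hψ, ha] at h
    simpa using h
  have hker : RingHom.ker χ = Ideal.span {f} := by
    refine le_antisymm (fun b hb => ?_) ((Ideal.span_singleton_le_iff_mem _).mpr ?_)
    · rw [← Ideal.Quotient.eq_zero_iff_mem, ← hθχ, RingHom.mem_ker.mp hb, map_zero]
    · rw [RingHom.mem_ker, map_sub, map_sum, sub_eq_zero, hconst]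
      have h := hswap (X (Sum.inr ()))
      rw [hψ, ha] at h
      simp only [aeval_X, Sum.elim_inr, TensorProduct.sum_tmul, eval_X] at h
      refine Eq.trans (Finset.sum_congr rfl fun l _ => ?_) h
      rw [Algebra.smul_def, map_mul, hconst, ← hX]
      show ((X l : MvPolynomial (Fin n) B) ⊗ₜ[R] (1 : k)) * ((C (g l) : MvPolynomial (Fin n) B) ⊗ₜ[R] (1 : k)) = _
      rw [Algebra.TensorProduct.tmul_mul_tmul, mul_one, mul_comm]
  have e : (Ideal.span {f}).radical = (nilradical (MvPolynomial (Fin n) B ⊗[R] k)).comap χ := by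
    rw [nilradical, Ideal.comap_radical, ← hker]
    rfl
  rw [e]
  exact hP.comap χ

variable [IsAlgClosed k] {B : Type u} [CommRing B] [IsDomain B] [Algebra k B] [Algebra.FiniteType k B]

/-- **General linear sections of an affine variety are irreducible.** -/
theorem exists_open_isPrime_radical {n : ℕ} (g : Fin (n + 1) → B) {i j : Fin (n + 1)}
    (hij : AlgebraicIndependent k ![g i, g j]) :
    ∃ P : MvPolynomial (Fin (n + 1) ⊕ Unit) k, P ≠ 0 ∧ ∀ a : Fin (n + 1) ⊕ Unit → k, eval a P ≠ 0 →
      (Ideal.span ({(∑ l, a (Sum.inl l) • g l) - algebraMap k B (a (Sum.inr ()))} : Set B)).radical.IsPrime := by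
  classical
  haveI : Infinite k := IsAlgClosed.instInfinite
  let K := FractionRing B
  haveI : Algebra.EssFiniteType k K := Algebra.EssFiniteType.comp k B K
  have hfg : (⊤ : IntermediateField k K).FG := IntermediateField.fg_top_iff.mpr inferInstance
  haveI : GeometricallyIrreducible (Spec.map (CommRingCat.ofHom (algebraMap k K))) :=
    geometricallyIrreducible_of_isAlgClosed
  let gK : Fin (n + 1) → K := fun l => algebraMap B K (g l)
  have hijK : AlgebraicIndependent k ![gK i, gK j] := by
    convert hij.map' (f := IsScalarTower.toAlgHom k B K) (IsFractionRing.injective B K) using 1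
    funext z
    fin_cases z <;> rfl
  let Ω := FractionRing (MvPolynomial (Fin (n + 1)) K)
  let x : Fin (n + 1) → Ω := fun l => algebraMap (MvPolynomial (Fin (n + 1)) K) Ω (X l)
  have hx : AlgebraicIndependent K x :=
    (algebraicIndependent_X (Fin (n + 1)) K).map'
      (f := IsScalarTower.toAlgHom K (MvPolynomial (Fin (n + 1)) K) Ω)
      (IsFractionRing.injective (MvPolynomial (Fin (n + 1)) K) Ω)
  have hind := indep_generic x hx gK hijK
  set ξ : Ω := ∑ l, algebraMap K Ω (gK l) * x l
  have hc : (∑ l, (Pi.single i 1 : Fin (n + 1) → k) l • gK l) = gK i := by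
    rw [Finset.sum_eq_single i (fun b _ hb => by simp [hb]) (by simp)]
    simp
  have hG := Groth.Agent.S7200.result hfg n gK (Pi.single i 1) (by rw [hc]; exact hind)
  set E := IntermediateField.adjoin k (Set.range x ∪ {ξ})
  let R := MvPolynomial (Fin (n + 1) ⊕ Unit) k
  let v : Fin (n + 1) ⊕ Unit → E := Sum.elim
    (fun l => ⟨x l, IntermediateField.subset_adjoin k _ (Or.inl ⟨l, rfl⟩)⟩)
    (fun _ => ⟨ξ, IntermediateField.subset_adjoin k _ (Or.inr rfl)⟩)
  have hρ : Function.Injective (aeval v : R →ₐ[k] E) := by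
    have hfun : (E.val ∘ v) = Sum.elim x ![ξ, algebraMap K Ω (gK i)] ∘ Sum.map id fun _ : Unit => (0 : Fin 2) := by
      funext z
      rcases z with l | l <;> rfl
    have h1 : AlgebraicIndependent k (E.val ∘ v) := hfun ▸ hind.comp (Sum.map id fun _ : Unit => (0 : Fin 2))
      (Function.Injective.sumMap (fun _ _ h => h) (fun a b _ => Subsingleton.elim a b))
    exact (AlgebraicIndependent.of_comp E.val h1 : AlgebraicIndependent k v)
  let ψ : R →ₐ[k] MvPolynomial (Fin (n + 1)) B := aeval (Sum.elim X fun _ => ∑ l, C (g l) * X l)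
  letI : Algebra R (MvPolynomial (Fin (n + 1)) B) := ψ.toRingHom.toAlgebra
  haveI : IsScalarTower k R (MvPolynomial (Fin (n + 1)) B) :=
    IsScalarTower.of_algebraMap_eq fun r => (ψ.commutes r).symm
  haveI : Algebra.FiniteType k (MvPolynomial (Fin (n + 1)) B) :=
    Algebra.FiniteType.trans ‹Algebra.FiniteType k B› inferInstance
  haveI : Algebra.FiniteType R (MvPolynomial (Fin (n + 1)) B) :=
    Algebra.FiniteType.of_restrictScalars_finiteType k R _
  letI : Algebra R E := (aeval v : R →ₐ[k] E).toRingHom.toAlgebra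
  haveI : IsFractionRing R E := by
    let φ : FractionRing R →+* E := IsFractionRing.lift (A := R) hρ
    have hφ0 : ∀ r, φ (algebraMap R (FractionRing R) r) = aeval v r := IsFractionRing.lift_algebraMap hρ
    have hφc : ∀ c : k, φ (algebraMap k (FractionRing R) c) = algebraMap k E c := fun c => by
      rw [IsScalarTower.algebraMap_apply k R (FractionRing R), hφ0, AlgHom.commutes]
    let φk : FractionRing R →ₐ[k] E := { φ with commutes' := hφc }
    have hsurj : Function.Surjective φ := fun z => by
      have hle : E ≤ φk.fieldRange.map E.val := IntermediateField.adjoin_le_iff.mpr (by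
        rintro _ (⟨l, rfl⟩ | rfl)
        · exact ⟨v (Sum.inl l), ⟨algebraMap R _ (X (Sum.inl l)), (hφ0 _).trans (aeval_X _ _)⟩, rfl⟩
        · exact ⟨v (Sum.inr ()), ⟨algebraMap R _ (X (Sum.inr ())), (hφ0 _).trans (aeval_X _ _)⟩, rfl⟩)
      obtain ⟨y, hy, hyz⟩ := hle z.2
      obtain ⟨w, rfl⟩ := hy
      exact ⟨w, Subtype.ext hyz⟩
    exact IsLocalization.isLocalization_of_algEquiv (nonZeroDivisors R)
      (AlgEquiv.ofBijective (AlgHom.mk φ fun r => hφ0 r) ⟨φ.injective, hsurj⟩)
  let L := AlgebraicClosure E
  haveI : FaithfulSMul R L := (faithfulSMul_iff_algebraMap_injective R L).mpr (by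
    rw [IsScalarTower.algebraMap_eq R E L]
    exact (algebraMap E L).injective.comp hρ)
  let ι₀ : MvPolynomial (Fin (n + 1)) B →ₐ[k] Ω :=
    (IsScalarTower.toAlgHom k (MvPolynomial (Fin (n + 1)) K) Ω).comp
      (MvPolynomial.mapAlgHom (IsScalarTower.toAlgHom k B K))
  letI : Algebra R Ω := ((algebraMap E Ω).comp (algebraMap R E)).toAlgebra
  haveI : IsScalarTower R E Ω := IsScalarTower.of_algebraMap_eq fun r => rfl
  have hcomm : ι₀.comp ψ = E.val.comp (aeval v) := by
    refine algHom_ext fun z => ?_
    rcases z with l | l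
    · simp [ψ, ι₀, v, x]
    · simp [ψ, ι₀, v, ξ, x, gK, IsScalarTower.algebraMap_apply K (MvPolynomial (Fin (n + 1)) K) Ω,
        MvPolynomial.algebraMap_eq]
  let ιR : MvPolynomial (Fin (n + 1)) B →ₐ[R] Ω := { ι₀ with commutes' := fun r => DFunLike.congr_fun hcomm r }
  have hι : Function.Injective ιR :=
    (IsFractionRing.injective (MvPolynomial (Fin (n + 1)) K) Ω).comp
      (map_injective _ (IsFractionRing.injective B K))
  obtain ⟨P, hP, hspread⟩ := GISpreadLib.exists_forall_isPrime_nilradical L (MvPolynomial (Fin (n + 1)) B)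
    (isPrime_nilradical_generic (E := E) (L := L) ιR hι hG)
  refine ⟨P, hP, fun a ha => ?_⟩
  letI : Algebra R k := (MvPolynomial.aeval (R := k) a).toRingHom.toAlgebra
  have haR : ∀ r, algebraMap R k r = eval a r := fun r => by
    rw [← aeval_eq_eval]; rfl
  exact isPrime_radical_section g (fun r => rfl) a haR (hspread k (by rwa [haR]))

end BertiniIrrLib

end
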