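import Groth.Agent.BertiniIrrLib.GenSect
import Groth.Agent.AmpleThLib.Locus
import Groth.Agent.IntMultLib.Positive
import Groth.Agent.CommAlgDim.Integral
import Groth.Agent.HodgeIdxLib.Reduce

/-!
# An irreducible hypersurface section through a curve
-/

set_option autoImplicit false
set_option linter.style.haveILetI false
set_option maxHeartbeats 800000
universe u

open CategoryTheory CategoryTheory.Limits AlgebraicGeometry TopologicalSpace Opposite
open AmpleLib AmpleThLib
open TwistLib (genSet)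
open HilbPolyLib (dim_lt_of_notMem)
open IntMultLib (eq_of_specializes_of_dim)

noncomputable section

namespace BertiniIrrLib

section Locus

variable {X : Scheme.{u}} [CompactSpace X] [QuasiSeparatedSpace X] {A : X.Modules} (hA : PicF.IsInvertible A)

/-- Functions on the locus of a section extend to sections of one power. -/
theorem exists_locus_sections {d : ℕ} (hd : 0 < d) (t : Γ(CohB1.tensorPow A d, ⊤)) {ι : Type*} [Finite ι]
    (f : ι → Γ(X, genSet (tensorPow_isInvertible hA d) t)) :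
    ∃ (K m : ℕ), 0 < K ∧ m = d * K ∧ ∃ (σ : ι → Γ(CohB1.tensorPow A m, ⊤))
      (e : Γ(CohB1.tensorPow A m, genSet (tensorPow_isInvertible hA d) t)), GenOn _ e ∧
      ∀ i, res _ le_top (σ i) = f i • e ∧ genSet (tensorPow_isInvertible hA m) (σ i) = X.basicOpen (f i) := by
  classical
  cases nonempty_fintype ι
  choose N hN using fun i => exists_extend hA t (r := 0) (show Γ(CohB1.tensorPow A 0, _) from f i)
  let M := Finset.univ.sum N
  choose u hu using fun i => hN i M (Finset.single_le_sum (fun j _ => Nat.zero_le _) (Finset.mem_univ i))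
  let V := genSet (tensorPow_isInvertible hA d) t
  let g : Γ(CohB1.tensorPow A (0 + d * M), V) :=
    mul hA (show Γ(CohB1.tensorPow A 0, V) from (1 : Γ(X, V))) (res _ le_top (tPow hA t M))
  have hg : GenOn _ g := mul_genOn hA (one_genOn V) (tPow_genOn hA t le_rfl M)
  have ht : GenOn _ (res (CohB1.tensorPow A d) (le_top : V ≤ ⊤) t) :=
    TwistLib.genSet_genOn (tensorPow_isInvertible hA d) t
  refine ⟨M + 1, 0 + d * M + d, Nat.succ_pos _, by ring, fun i => mul hA (u i) t, mul hA g (res _ le_top t),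
    mul_genOn hA hg ht, fun i => ?_⟩
  have hui : res _ le_top (u i) = f i • g := by
    rw [hu i]
    have h := mul_smul_smul hA (f i) (1 : Γ(X, V)) (show Γ(CohB1.tensorPow A 0, V) from (1 : Γ(X, V)))
      (res _ (le_top : V ≤ ⊤) (tPow hA t M))
    rw [one_smul, mul_one] at h
    exact Eq.trans (congrArg (fun z => mul hA z _) (mul_one (f i)).symm) h
  refine ⟨?_, ?_⟩
  · rw [mul_res, hui]
    have h := mul_smul_smul hA (f i) (1 : Γ(X, V)) g (res _ (le_top : V ≤ ⊤) t)
    rwa [one_smul, mul_one] at h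
  · rw [genSet_mul]
    exact mem_genSet_coeff _ (u i) hg hui.symm

/-- An affine locus inside a given open. -/
theorem exists_affine_locus (hamp : CohB1.IsAmple A) {x : X} {W : X.Opens} (hx : x ∈ W) :
    ∃ (n : ℕ) (V : X.Opens), 0 < n ∧ IsLocus hA n V ∧ x ∈ V ∧ IsAffineOpen V ∧ V ≤ W := by
  obtain ⟨d, V, hd, ⟨t, rfl⟩, hxV, hV⟩ := ((isAmple_iff (hL := hA)).mp hamp).2 x
  obtain ⟨f, hfW, hxf⟩ := hV.exists_basicOpen_le (V := W) ⟨x, hx⟩ hxV
  obtain ⟨K, m, hK, hm, σ, e, -, h⟩ := exists_locus_sections hA hd t (fun _ : Unit => f)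
  exact ⟨m, X.basicOpen f, hm ▸ Nat.mul_pos hd hK, ⟨σ (), (h ()).2⟩, hxf, hV.basicOpen f, hfW⟩

end Locus

theorem exists_indep_pair {k : Type u} [Field k] (B : Type u) [CommRing B] [IsDomain B] [Algebra k B]
    [Algebra.FiniteType k B] (h : (2 : WithBot ℕ∞) ≤ ringKrullDim B) :
    ∃ a b : B, AlgebraicIndependent k ![a, b] := by
  obtain ⟨s, g, hg, hfin⟩ := exists_finite_inj_algHom_of_fg k B
  letI : Algebra (MvPolynomial (Fin s) k) B := g.toRingHom.toAlgebra
  haveI : Module.Finite (MvPolynomial (Fin s) k) B := hfin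
  have hd := CommAlgDim.ringKrullDim_eq_of_integral (MvPolynomial (Fin s) k) B hg
  rw [hd, MvPolynomial.ringKrullDim_of_isNoetherianRing, ringKrullDim_eq_zero_of_field, zero_add,
    Nat.card_fin] at h
  have hs : 2 ≤ s := by exact_mod_cast h
  refine ⟨g (MvPolynomial.X ⟨0, by omega⟩), g (MvPolynomial.X ⟨1, by omega⟩), ?_⟩
  have h2 := ((MvPolynomial.algebraicIndependent_X (Fin s) k).map' (f := g) hg).comp (Fin.castLE hs)
    (Fin.castLE_injective hs)
  convert h2 using 1
  funext z
  fin_cases z <;> rfl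

theorem res_sub {X : Scheme.{u}} (M : X.Modules) {V W : X.Opens} (h : V ≤ W) (a b : Γ(M, W)) :
    res M h (a - b) = res M h a - res M h b := map_sub _ a b

theorem res_sum {X : Scheme.{u}} (M : X.Modules) {V W : X.Opens} (h : V ≤ W) {ι : Type*} (s : Finset ι)
    (a : ι → Γ(M, W)) : res M h (∑ i ∈ s, a i) = ∑ i ∈ s, res M h (a i) := map_sum _ a s

section Irr

variable {k : Type u} [Field k] {X : Scheme.{u}} [X.Over (Spec (CommRingCat.of k))]

/-- The constants. -/
def const : k →+* Γ(X, ⊤) :=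
  (X ↘ Spec (CommRingCat.of k)).appTop.hom.comp (Scheme.ΓSpecIso (CommRingCat.of k)).inv.hom

variable (k) [IsProper (X ↘ Spec (CommRingCat.of k))]
include k

/-- Below a point of the zero locus lies a point of the zero locus of dimension at least `r`. -/
theorem exists_dim_point [IsIntegral X] {r : ℕ} (hX : topologicalKrullDim X = ((r + 1 : ℕ) : WithBot ℕ∞))
    {N : X.Modules} (hN : PicF.IsInvertible N) (σ : Γ(N, ⊤)) {x : X} (hx : x ∉ genSet hN σ)
    (hgen : genericPoint X ∈ genSet hN σ) :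
    ∃ y, y ∉ genSet hN σ ∧ y ⤳ x ∧ topologicalKrullDim (closure ({y} : Set X)) = (r : WithBot ℕ∞) := by
  haveI := CurvLib.isNoetherian k (X := X)
  have hclosed : IsClosed ((genSet hN σ : Set X)ᶜ) := (genSet hN σ).isOpen.isClosed_compl
  have hle : topologicalKrullDim ((genSet hN σ : Set X)ᶜ : Set X) ≤ (r : ℕ) :=
    IntFunLib.dim_le_iff.mp (dim_lt_of_notMem hclosed (fun z _ => (genericPoint_spec X).def.ge trivial)
      (fun h => h hgen) (Y := Set.univ) (Set.subset_univ _)
      (IntFunLib.dim_le_iff.mpr ((topologicalKrullDim_subspace_le _ _).trans hX.le)))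
  classical
  let S := {y : X | y ∉ genSet hN σ ∧ topologicalKrullDim (closure ({y} : Set X)) = (r : WithBot ℕ∞)}
  have hfin : S.Finite := IntMultLib.finite_dim_points hclosed hle
  by_contra hcon
  push Not at hcon
  -- shrink away from the points of dimension `r`
  let T : Set X := ⋃ y ∈ S, closure {y}
  have hT : IsClosed T := hfin.isClosed_biUnion fun y _ => isClosed_closure
  have hxT : x ∉ T := by
    simp only [T, Set.mem_iUnion, not_exists]
    exact fun y hy hxy => hcon y hy.1 (specializes_iff_mem_closure.mpr hxy) hy.2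
  obtain ⟨V, hV, hxV, hVT⟩ := exists_isAffineOpen_mem_and_subset (x := x) (U := ⟨Tᶜ, hT.isOpen_compl⟩) hxT
  obtain ⟨U', e, hxU', he⟩ := TwistLib.exists_genOn hN x
  obtain ⟨W, hW, hxW, hWV⟩ := exists_isAffineOpen_mem_and_subset (x := x) (U := V ⊓ U') ⟨hxV, hxU'⟩
  obtain ⟨f, hf⟩ := AmpleThLib.exists_coeff σ (he.res (hWV.trans inf_le_right))
  have hiff := mem_genSet_coeff hN σ (he.res (hWV.trans inf_le_right)) hf
  haveI : Nonempty W := ⟨⟨x, hxW⟩⟩
  letI : Algebra k Γ(X, W) := ((X.presheaf.map (homOfLE (le_top : W ≤ ⊤)).op).hom.comp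
    (const (X := X))).toAlgebra
  haveI : Algebra.FiniteType k Γ(X, W) := by
    refine (RingHom.finiteType_algebraMap (A := k) (B := Γ(X, W))).mp ?_
    exact ((X ↘ Spec (CommRingCat.of k)).finiteType_appLE (isAffineOpen_top _) hW le_top).comp
      (RingHom.FiniteType.of_surjective _
        (ConcreteCategory.bijective_of_isIso (Scheme.ΓSpecIso (CommRingCat.of k)).inv).2)
  haveI : IsNoetherianRing Γ(X, W) := Algebra.FiniteType.isNoetherianRing k _
  have hiff' : ∀ (y : X) (hy : y ∈ W), y ∈ genSet hN σ ↔ f ∉ (hW.primeIdealOf ⟨y, hy⟩).asIdeal := fun y hy => by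
    rw [← AssPointLib.mem_basicOpen_iff hW hy f, ← hiff]
    exact ⟨fun h => ⟨h, hy⟩, fun h => h.1⟩
  have hfx : f ∈ (hW.primeIdealOf ⟨x, hxW⟩).asIdeal := not_not.mp fun h => hx ((hiff' x hxW).mpr h)
  obtain ⟨p, hp, -⟩ := Ideal.exists_minimalPrimes_le (I := Ideal.span {f})
    ((Ideal.span_singleton_le_iff_mem _).mpr hfx)
  haveI := hp.1.1
  have hht : p.height ≤ 1 := Ideal.height_le_one_of_isPrincipal_of_mem_minimalPrimes _ p hp
  let y : X := hW.fromSpec ⟨p, hp.1.1⟩
  have hyW : y ∈ W := hW.range_fromSpec.le ⟨_, rfl⟩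
  have hpy : hW.primeIdealOf ⟨y, hyW⟩ = ⟨p, hp.1.1⟩ :=
    hW.fromSpec.isOpenEmbedding.injective (hW.fromSpec_primeIdealOf ⟨y, hyW⟩)
  have hyG : y ∉ genSet hN σ := fun h =>
    (hiff' y hyW).mp h (by rw [hpy]; exact hp.1.2 (Ideal.mem_span_singleton_self f))
  have hdy : topologicalKrullDim (closure ({y} : Set X)) = (r : WithBot ℕ∞) := by
    refine le_antisymm ((IntFunLib.dim_mono (hclosed.closure_subset_iff.mpr
      (Set.singleton_subset_iff.mpr hyG))).trans hle) ?_
    have hgW : genericPoint X ∈ W := ((genericPoint_spec X).mem_open_set_iff W.2).mpr ⟨x, trivial, hxW⟩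
    have hdim : ringKrullDim Γ(X, W) = ((r + 1 : ℕ) : WithBot ℕ∞) := by
      rw [← hX, ← (Homeomorph.Set.univ X).isHomeomorph.topologicalKrullDim_eq,
        ← (genericPoint_spec X).def,
        FibDimLib.topologicalKrullDim_closure_eq_affine (X ↘ Spec (CommRingCat.of k)) hW hgW]
      refine ringKrullDim_eq_of_ringEquiv ((RingEquiv.quotientBot _).symm.trans (Ideal.quotEquivOfEq ?_))
      refine (eq_bot_iff.mpr fun a ha => ?_).symm
      by_contra hne
      have hne' : ((X.basicOpen a : X.Opens) : Set X).Nonempty := by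
        by_contra hc
        exact hne (eq_zero_of_basicOpen_eq_bot a (Opens.ext (Set.not_nonempty_iff_eq_empty.mp hc)))
      exact ((AssPointLib.mem_basicOpen_iff hW hgW a).mp
        (((genericPoint_spec X).mem_open_set_iff (X.basicOpen a).2).mpr (by simpa using hne'))) ha
    have hform := FibDimLib.ringKrullDim_quotient_add_height_affine (k := k) Γ(X, W) p
    rw [hdim] at hform
    rw [FibDimLib.topologicalKrullDim_closure_eq_affine (X ↘ Spec (CommRingCat.of k)) hW hyW, hpy]
    change ((r : ℕ) : WithBot ℕ∞) ≤ ringKrullDim (Γ(X, W) ⧸ p)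
    revert hform
    generalize ringKrullDim (Γ(X, W) ⧸ p) = t
    intro hform
    induction t with
    | bot => rw [WithBot.bot_add] at hform; exact absurd hform (WithBot.bot_ne_natCast _)
    | coe a =>
      induction a with
      | top => exact le_top
      | coe m =>
        obtain ⟨h', hh', hle'⟩ : ∃ h' : ℕ, p.height = (h' : ℕ∞) ∧ h' ≤ 1 := by
          obtain ⟨h', hh'⟩ := ENat.ne_top_iff_exists.mp (ne_top_of_le_ne_top ENat.one_ne_top hht)
          exact ⟨h', hh'.symm, by rw [← hh'] at hht; exact_mod_cast hht⟩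
        rw [hh'] at hform
        have : m + h' = r + 1 := by exact_mod_cast hform
        exact_mod_cast (show r ≤ m by omega)
  exact hVT ((hWV.trans inf_le_left) hyW) (Set.mem_iUnion₂.mpr ⟨y, ⟨hyG, hdy⟩, subset_closure rfl⟩)

variable [IsAlgClosed k] [IsIntegral X]

/-- **An irreducible hypersurface section through a curve.** -/
theorem exists_irreducible_section {r : ℕ} (hX : topologicalKrullDim X = ((r + 1 : ℕ) : WithBot ℕ∞)) (hr : 2 ≤ r)
    {A : X.Modules} (hamp : CohB1.IsAmple A) {c : X}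
    (hc : topologicalKrullDim (closure ({c} : Set X)) = ((1 : ℕ) : WithBot ℕ∞)) :
    ∃ (m : ℕ) (_ : 0 < m) (σ : Γ(CohB1.tensorPow A m, ⊤)) (η : X),
      genericPoint X ∈ genSet (tensorPow_isInvertible hamp.1 m) σ ∧ c ∈ closure ({η} : Set X) ∧
      η ∉ genSet (tensorPow_isInvertible hamp.1 m) σ ∧
      topologicalKrullDim (closure ({η} : Set X)) = (r : WithBot ℕ∞) ∧
      ∀ y, y ∉ genSet (tensorPow_isInvertible hamp.1 m) σ →
        topologicalKrullDim (closure ({y} : Set X)) = (r : WithBot ℕ∞) → y = η := by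
  classical
  haveI := CurvLib.isNoetherian k (X := X)
  have hA := hamp.1
  let C : X.Opens := ⟨(closure ({c} : Set X))ᶜ, isClosed_closure.isOpen_compl⟩
  have hgC : genericPoint X ∈ C := fun h => by
    have hle := IntFunLib.dim_mono (isClosed_closure.closure_subset_iff.mpr (Set.singleton_subset_iff.mpr h))
    rw [(genericPoint_spec X).def, (Homeomorph.Set.univ X).isHomeomorph.topologicalKrullDim_eq, hX, hc] at hle
    have : r + 1 ≤ 1 := by exact_mod_cast hle
    omega
  choose n V hn hloc hxV haff hVC using fun x : C => exists_affine_locus hA hamp (x := (x : X)) x.2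
  obtain ⟨cov, hcov⟩ := (TopologicalSpace.NoetherianSpace.isCompact (C : Set X)).elim_finite_subcover
    (fun x : C => (V x : Set X)) (fun x => (V x).isOpen) fun x hx => Set.mem_iUnion.mpr ⟨⟨x, hx⟩, hxV _⟩
  let D := (∏ l ∈ cov, n l) * n ⟨_, hgC⟩
  have hD : 0 < D := Nat.mul_pos (Finset.prod_pos fun l _ => hn l) (hn _)
  have hlocD : ∀ l ∈ cov, IsLocus hA D (V l) := fun l hl => by
    obtain ⟨q, hq⟩ := (Finset.dvd_prod_of_mem n hl).trans (Dvd.intro (n ⟨_, hgC⟩) rfl : _ ∣ D)
    have := (hloc l).mul_right (k := q) (Nat.pos_of_ne_zero fun h => by rw [h, mul_zero] at hq; omega)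
    rwa [← hq] at this
  have hlocU : IsLocus hA D (V ⟨_, hgC⟩) := by
    have := (hloc ⟨_, hgC⟩).mul_right (k := ∏ l ∈ cov, n l) (Finset.prod_pos fun l _ => hn l)
    rwa [mul_comm] at this
  have haffU := haff ⟨_, hgC⟩
  have hgU := hxV ⟨_, hgC⟩
  have hUC := hVC ⟨_, hgC⟩
  obtain ⟨t, ht⟩ := hlocU
  rw [← ht] at haffU hgU hUC
  set U := genSet (tensorPow_isInvertible hA D) t
  haveI : Nonempty U := ⟨⟨_, hgU⟩⟩
  haveI : IsDomain Γ(X, U) := IsIntegral.component_integral U
  letI : Algebra k Γ(X, U) := ((X.presheaf.map (homOfLE (le_top : U ≤ ⊤)).op).hom.comp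
    (const (X := X))).toAlgebra
  haveI : Algebra.FiniteType k Γ(X, U) := by
    refine (RingHom.finiteType_algebraMap (A := k) (B := Γ(X, U))).mp ?_
    exact ((X ↘ Spec (CommRingCat.of k)).finiteType_appLE (isAffineOpen_top _) haffU le_top).comp
      (RingHom.FiniteType.of_surjective _
        (ConcreteCategory.bijective_of_isIso (Scheme.ΓSpecIso (CommRingCat.of k)).inv).2)
  have hdimU : ringKrullDim Γ(X, U) = ((r + 1 : ℕ) : WithBot ℕ∞) := by
    rw [← hX, ← (Homeomorph.Set.univ X).isHomeomorph.topologicalKrullDim_eq, ← (genericPoint_spec X).def,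
      FibDimLib.topologicalKrullDim_closure_eq_affine (X ↘ Spec (CommRingCat.of k)) haffU hgU]
    refine ringKrullDim_eq_of_ringEquiv ((RingEquiv.quotientBot _).symm.trans (Ideal.quotEquivOfEq ?_))
    refine (eq_bot_iff.mpr fun a ha => ?_).symm
    by_contra hne
    have hne' : ((X.basicOpen a : X.Opens) : Set X).Nonempty := by
      by_contra hc
      exact hne (eq_zero_of_basicOpen_eq_bot a (Opens.ext (Set.not_nonempty_iff_eq_empty.mp hc)))
    exact ((AssPointLib.mem_basicOpen_iff haffU hgU a).mp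
      (((genericPoint_spec X).mem_open_set_iff (X.basicOpen a).2).mpr (by simpa using hne'))) ha
  obtain ⟨fa, fb, hab⟩ := exists_indep_pair (k := k) Γ(X, U) (by rw [hdimU]; exact_mod_cast (by omega : 2 ≤ r + 1))
  obtain ⟨K, m, hK, hm, σ₀, e, he, hσ₀⟩ := exists_locus_sections hA hD t ![fa, fb, 1]
  have hTinv := tensorPow_isInvertible hA m
  have hlocm : ∀ l : cov, ∃ τ : Γ(CohB1.tensorPow A m, ⊤), genSet hTinv τ = V l.1 := fun l => by
    have := (hlocD l.1 l.2).mul_right (k := K) hK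
    rw [← hm] at this
    exact this
  choose τc hτc using hlocm
  let ι := Fin 2 ⊕ cov
  have hcard : 0 < Fintype.card ι := Fintype.card_pos_iff.mpr ⟨Sum.inl 0⟩
  obtain ⟨q, hq⟩ : ∃ q, Fintype.card ι = q + 1 := ⟨Fintype.card ι - 1, by omega⟩
  let eι : Fin (q + 1) ≃ ι := ((finCongr hq.symm).trans (Fintype.equivFin ι).symm)
  let τ : Fin (q + 1) → Γ(CohB1.tensorPow A m, ⊤) := fun l =>
    Sum.elim (fun z => σ₀ (Fin.castSucc z)) τc (eι l)
  let τ₀ := σ₀ 2
  have hτ₀ : res _ (le_top : U ≤ ⊤) τ₀ = e := by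
    rw [(hσ₀ 2).1]
    exact one_smul _ e
  have hg₀ : genSet hTinv τ₀ = U :=
    (hσ₀ 2).2.trans (X.basicOpen_of_isUnit (f := (1 : Γ(X, U))) isUnit_one)
  choose g hg using fun l => AmpleThLib.exists_coeff (τ l) he
  have hgi : ∀ z : Fin 2, g (eι.symm (Sum.inl z)) = ![fa, fb, 1] (Fin.castSucc z) := fun z => by
    refine (he U le_rfl).1 ?_
    simp only [res_refl]
    rw [hg, ← (hσ₀ (Fin.castSucc z)).1]
    simp [τ]
  have hij : AlgebraicIndependent k ![g (eι.symm (Sum.inl 0)), g (eι.symm (Sum.inl 1))] := by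
    rw [hgi, hgi]
    exact hab
  obtain ⟨P, hP, hPirr⟩ := exists_open_isPrime_radical (k := k) g hij
  -- the components off `U`
  have hUclosed : IsClosed ((U : Set X)ᶜ) := U.isOpen.isClosed_compl
  have hUle : topologicalKrullDim ((U : Set X)ᶜ : Set X) ≤ (r : ℕ) :=
    IntFunLib.dim_le_iff.mp (dim_lt_of_notMem hUclosed (fun z _ => (genericPoint_spec X).def.ge trivial)
      (fun h => h hgU) (Y := Set.univ) (Set.subset_univ _)
      (IntFunLib.dim_le_iff.mpr ((topologicalKrullDim_subspace_le _ _).trans hX.le)))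
  let Bad := (IntMultLib.finite_dim_points hUclosed hUle).toFinset
  let comb : (Fin (q + 1) ⊕ Unit → k) → Γ(CohB1.tensorPow A m, ⊤) := fun a =>
    (∑ l, const (X := X) (a (Sum.inl l)) • τ l) - const (X := X) (a (Sum.inr ())) • τ₀
  have key : ∀ w ∈ Bad, ∃ Q : MvPolynomial (Fin (q + 1) ⊕ Unit) k, Q ≠ 0 ∧
      ∀ a, MvPolynomial.eval a Q ≠ 0 → w ∈ genSet hTinv (comb a) := fun w hw => by
    obtain ⟨hwU, hwd⟩ := (Set.Finite.mem_toFinset _).mp hw
    have hwC : w ∈ C := fun h => by
      have hle := IntFunLib.dim_mono (isClosed_closure.closure_subset_iff.mpr (Set.singleton_subset_iff.mpr h))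
      rw [hwd, hc] at hle
      have : r ≤ 1 := by exact_mod_cast hle
      omega
    obtain ⟨l₀, hl₀, hwl⟩ := Set.mem_iUnion₂.mp (hcov hwC)
    obtain ⟨Uw, ew, hwUw, hew⟩ := TwistLib.exists_genOn hTinv w
    choose rc hrc using fun l => AmpleThLib.exists_coeff (τ l) hew
    obtain ⟨r0, hr0⟩ := AmpleThLib.exists_coeff τ₀ hew
    have hmemw : ∀ (σ : Γ(CohB1.tensorPow A m, ⊤)) (z : Γ(X, Uw)), z • ew = res _ le_top σ →
        (w ∈ genSet hTinv σ ↔ X.evaluation Uw w hwUw z ≠ 0) := fun σ z hz => by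
      rw [Scheme.evaluation_ne_zero_iff_mem_basicOpen, ← mem_genSet_coeff hTinv σ hew hz]
      exact ⟨fun h => ⟨h, hwUw⟩, fun h => h.1⟩
    let κ : k →+* X.residueField w := (X.evaluation Uw w hwUw).hom.comp
      ((X.presheaf.map (homOfLE (le_top : Uw ≤ ⊤)).op).hom.comp (const (X := X)))
    letI : Algebra k (X.residueField w) := κ.toAlgebra
    let v : Fin (q + 1) ⊕ Unit → X.residueField w := Sum.elim (fun l => X.evaluation Uw w hwUw (rc l))
      (fun _ => - X.evaluation Uw w hwUw r0)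
    have hv : v (Sum.inl (eι.symm (Sum.inr ⟨l₀, hl₀⟩))) ≠ 0 := by
      show X.evaluation Uw w hwUw (rc _) ≠ 0
      rw [← hmemw _ _ (hrc _)]
      simp only [τ, Equiv.apply_symm_apply, Sum.elim_inr, hτc]
      exact hwl
    obtain ⟨ψ, hψ⟩ : ∃ ψ : X.residueField w →ₗ[k] k, ψ (v (Sum.inl (eι.symm (Sum.inr ⟨l₀, hl₀⟩)))) ≠ 0 := by
      by_contra h
      push Not at h
      exact hv ((Module.forall_dual_apply_eq_zero_iff k _).mp h)
    refine ⟨∑ z, MvPolynomial.C (ψ (v z)) * MvPolynomial.X z, fun h => hψ ?_, fun a ha => ?_⟩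
    · have := congrArg (MvPolynomial.eval (Pi.single (Sum.inl (eι.symm (Sum.inr ⟨l₀, hl₀⟩))) (1 : k))) h
      simpa [Pi.single_apply] using this
    · have hz : ((∑ l, X.presheaf.map (homOfLE (le_top : Uw ≤ ⊤)).op (const (X := X) (a (Sum.inl l))) * rc l) -
          X.presheaf.map (homOfLE (le_top : Uw ≤ ⊤)).op (const (X := X) (a (Sum.inr ()))) * r0) • ew =
          res _ le_top (comb a) := by
        rw [sub_smul, Finset.sum_smul]
        simp only [mul_smul, hrc, hr0, comb]
        rw [res_sub, res_sum]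
        simp only [res_smul]
      rw [hmemw _ _ hz]
      intro h0
      refine ha ?_
      have hsum : ∑ z, a z • v z = 0 := by
        rw [← h0, map_sub, map_sum, Fintype.sum_sum_type, sub_eq_add_neg]
        simp [v, Algebra.smul_def, RingHom.algebraMap_toAlgebra, κ]
      have := congrArg ψ hsum
      rw [map_sum, map_zero] at this
      simp only [map_smul, smul_eq_mul] at this
      simpa [mul_comm] using this
  choose Q hQ hQmem using key
  obtain ⟨a, ha⟩ : ∃ a, MvPolynomial.eval a (P * ∏ w ∈ Bad.attach, Q w.1 w.2) ≠ 0 := by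
    haveI : Infinite k := IsAlgClosed.instInfinite
    by_contra h
    push Not at h
    exact mul_ne_zero hP (Finset.prod_ne_zero_iff.mpr fun (w : {x // x ∈ Bad}) (_ : w ∈ Bad.attach) => hQ w.1 w.2)
      (MvPolynomial.funext fun a => (h a).trans (map_zero _).symm)
  rw [map_mul, mul_ne_zero_iff, map_prod, Finset.prod_ne_zero_iff] at ha
  let σ := comb a
  let f := (∑ l, a (Sum.inl l) • g l) - algebraMap k Γ(X, U) (a (Sum.inr ()))
  have hprime := hPirr a ha.1
  have hf : f • e = res _ le_top σ := by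
    rw [sub_smul, Finset.sum_smul]
    simp only [Algebra.smul_def, mul_smul, hg, σ, comb]
    rw [res_sub, res_sum]
    simp only [res_smul, hτ₀]
    rfl
  have hiff : ∀ (y : X) (hy : y ∈ U), y ∈ genSet hTinv σ ↔ f ∉ (haffU.primeIdealOf ⟨y, hy⟩).asIdeal := fun y hy => by
    rw [← AssPointLib.mem_basicOpen_iff haffU hy f, ← mem_genSet_coeff hTinv σ he hf]
    exact ⟨fun h => ⟨h, hy⟩, fun h => h.1⟩
  have hgen : genericPoint X ∈ genSet hTinv σ := by
    by_contra hng
    have hall : ∀ y, y ∉ genSet hTinv σ := fun y hy =>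
      hng (((genericPoint_spec X).mem_open_set_iff (genSet hTinv σ).2).mpr ⟨y, trivial, hy⟩)
    have hBad : Bad = ∅ := Finset.eq_empty_of_forall_notMem fun w hw =>
      hall w (hQmem w hw a (ha.2 ⟨w, hw⟩ (Finset.mem_attach _ _)))
    -- the complement of `U` has a point of dimension `r`
    have hU0 : ((U : Set X)ᶜ).Nonempty := ⟨c, fun h => (hUC h) (subset_closure rfl)⟩
    obtain ⟨x, hx⟩ := hU0
    obtain ⟨y, hy, -, hyd⟩ := exists_dim_point k hX hTinv τ₀ (x := x) (by rw [hg₀]; exact hx) (by rw [hg₀]; exact hgU)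
    rw [hg₀] at hy
    exact absurd (show y ∈ Bad from (Set.Finite.mem_toFinset _).mpr ⟨hy, hyd⟩) (hBad ▸ Finset.notMem_empty y)
  have hinU : ∀ y, y ∉ genSet hTinv σ → topologicalKrullDim (closure ({y} : Set X)) = (r : WithBot ℕ∞) → y ∈ U := by
    intro y hy hyd
    by_contra hyU
    have hyB : y ∈ Bad := (Set.Finite.mem_toFinset _).mpr ⟨hyU, hyd⟩
    exact hy (hQmem y hyB a (ha.2 ⟨y, hyB⟩ (Finset.mem_attach _ _)))
  have hcσ : c ∉ genSet hTinv σ := by
    intro hmem
    obtain ⟨Uc, ec, hcUc, hec⟩ := TwistLib.exists_genOn hTinv c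
    choose rc hrc using fun l => AmpleThLib.exists_coeff (τ l) hec
    obtain ⟨r0, hr0⟩ := AmpleThLib.exists_coeff τ₀ hec
    have hz : ∀ (σ' : Γ(CohB1.tensorPow A m, ⊤)) (z : Γ(X, Uc)), z • ec = res _ le_top σ' →
        c ∉ genSet hTinv σ' → X.evaluation Uc c hcUc z = 0 := fun σ' z hz hn => by
      by_contra hne
      rw [← ne_eq, Scheme.evaluation_ne_zero_iff_mem_basicOpen, ← mem_genSet_coeff hTinv σ' hec hz] at hne
      exact hn hne.1
    have hcC : c ∉ C := fun h => h (subset_closure rfl)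
    have hτz : ∀ l, X.evaluation Uc c hcUc (rc l) = 0 := fun l => hz _ _ (hrc l) (by
      show c ∉ genSet hTinv (Sum.elim (fun z => σ₀ (Fin.castSucc z)) τc (eι l))
      rcases eι l with z | z
      · simp only [Sum.elim_inl, (hσ₀ _).2]
        exact fun h => hcC (hUC (Scheme.basicOpen_le _ _ h))
      · simp only [Sum.elim_inr, hτc]
        exact fun h => hcC (hVC _ h))
    have hr0z : X.evaluation Uc c hcUc r0 = 0 := hz _ _ hr0 (by rw [hg₀]; exact fun h => hcC (hUC h))
    have hzc : ((∑ l, X.presheaf.map (homOfLE (le_top : Uc ≤ ⊤)).op (const (X := X) (a (Sum.inl l))) * rc l) -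
        X.presheaf.map (homOfLE (le_top : Uc ≤ ⊤)).op (const (X := X) (a (Sum.inr ()))) * r0) • ec =
        res _ le_top σ := by
      rw [sub_smul, Finset.sum_smul]
      simp only [mul_smul, hrc, hr0, σ, comb]
      rw [res_sub, res_sum]
      simp only [res_smul]
    have h1 : c ∈ X.basicOpen ((∑ l, X.presheaf.map (homOfLE (le_top : Uc ≤ ⊤)).op
        (const (X := X) (a (Sum.inl l))) * rc l) -
        X.presheaf.map (homOfLE (le_top : Uc ≤ ⊤)).op (const (X := X) (a (Sum.inr ()))) * r0) := by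
      rw [← mem_genSet_coeff hTinv σ hec hzc]; exact ⟨hmem, hcUc⟩
    rw [← Scheme.evaluation_ne_zero_iff_mem_basicOpen _ _ hcUc] at h1
    refine h1 ?_
    simp [map_sum, hτz, hr0z]
  obtain ⟨η, hη, hηc, hηd⟩ := exists_dim_point k hX hTinv σ hcσ hgen
  refine ⟨m, hm ▸ Nat.mul_pos hD hK, σ, η, hgen, specializes_iff_mem_closure.mp hηc, hη, hηd, fun y hy hyd => ?_⟩
  -- both are the generic point of the section on `U`
  let p : PrimeSpectrum Γ(X, U) := ⟨_, hprime⟩
  let g₀ : X := haffU.fromSpec p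
  have hg₀U : g₀ ∈ U := haffU.range_fromSpec.le ⟨_, rfl⟩
  have hg₀σ : g₀ ∉ genSet hTinv σ := fun h => (hiff g₀ hg₀U).mp h (by
    rw [show haffU.primeIdealOf ⟨g₀, hg₀U⟩ = p from
      haffU.fromSpec.isOpenEmbedding.injective (haffU.fromSpec_primeIdealOf _)]
    exact Ideal.le_radical (Ideal.mem_span_singleton_self f))
  have hspec : ∀ z, z ∉ genSet hTinv σ → z ∈ U → g₀ ⤳ z := fun z hz hzU => by
    rw [← (show haffU.fromSpec (haffU.primeIdealOf ⟨z, hzU⟩) = z from haffU.fromSpec_primeIdealOf _)]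
    refine Specializes.map ((PrimeSpectrum.le_iff_specializes _ _).mp ?_) haffU.fromSpec.continuous
    show (Ideal.span {f}).radical ≤ _
    exact (Ideal.IsRadical.radical_le_iff (Ideal.IsPrime.isRadical inferInstance)).mpr
      ((Ideal.span_singleton_le_iff_mem _).mpr (not_not.mp fun h => hz ((hiff z hzU).mpr h)))
  have hclosed : IsClosed ((genSet hTinv σ : Set X)ᶜ) := (genSet hTinv σ).isOpen.isClosed_compl
  have hle : topologicalKrullDim ((genSet hTinv σ : Set X)ᶜ : Set X) ≤ (r : ℕ) :=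
    IntFunLib.dim_le_iff.mp (dim_lt_of_notMem hclosed (fun z _ => (genericPoint_spec X).def.ge trivial)
      (fun h => h hgen) (Y := Set.univ) (Set.subset_univ _)
      (IntFunLib.dim_le_iff.mpr ((topologicalKrullDim_subspace_le _ _).trans hX.le)))
  rw [← eq_of_specializes_of_dim hclosed hle hyd hg₀σ (hspec y hy (hinU y hy hyd))]
  exact eq_of_specializes_of_dim hclosed hle hηd hg₀σ (hspec η hη (hinU η hη hηd))

end Irr

end BertiniIrrLib

end
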